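import Mathlib
import Groth.Prelude.Def_Smoothing
import Groth.Agent.Lib.Helper58.SmoothLift

set_option autoImplicit false

universe u

namespace Groth.Agent.Lib.Helper77.AA.Core

/-- Existence form of Artin approximation: over a henselian local ring `R`, if `Λ` is ind-smooth
over `R` (Popescu) and has an `R`-algebra map to the residue field of `R`, then every polynomial
system over `R` with a solution in `Λ` has a solution in `R`. -/
theorem exists_solution {R : Type u} [CommRing R] [HenselianLocalRing R] {Λ : Type u}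
    [CommRing Λ] [Algebra R Λ] (hind : Smoothing.IndSmooth R Λ)
    (ε : Λ →ₐ[R] IsLocalRing.ResidueField R)
    (n m : ℕ) (F : Fin m → MvPolynomial (Fin n) R)
    (h : ∃ a : Fin n → Λ, ∀ j,
      MvPolynomial.eval a (MvPolynomial.map (algebraMap R Λ) (F j)) = 0) :
    ∃ b : Fin n → R, ∀ j, MvPolynomial.eval b (F j) = 0 := by
  classical
  obtain ⟨a, ha⟩ := h
  -- the finitely presented algebra of the system
  let J : Ideal (MvPolynomial (Fin n) R) := Ideal.span (Set.range F)
  have hJfg : J.FG := Submodule.fg_span (Set.finite_range F)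
  haveI : Algebra.FinitePresentation R (MvPolynomial (Fin n) R ⧸ J) :=
    Algebra.FinitePresentation.quotient hJfg
  have hkill : ∀ p ∈ J, MvPolynomial.aeval a p = 0 := by
    intro p hp
    have hle : J ≤ RingHom.ker (MvPolynomial.aeval a : MvPolynomial (Fin n) R →ₐ[R] Λ) := by
      refine Ideal.span_le.mpr ?_
      rintro _ ⟨j, rfl⟩
      rw [SetLike.mem_coe, RingHom.mem_ker, MvPolynomial.aeval_def,
        MvPolynomial.eval₂_eq_eval_map]
      exact ha j
    exact hle hp
  let f : (MvPolynomial (Fin n) R ⧸ J) →ₐ[R] Λ :=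
    Ideal.Quotient.liftₐ J (MvPolynomial.aeval a) hkill
  obtain ⟨B, instB, instRB, hsm, g, hh, hgh⟩ := hind (MvPolynomial (Fin n) R ⧸ J) inferInstance f
  haveI := hsm
  obtain ⟨τ, hτ⟩ := Groth.Agent.Lib.Helper58.SmoothLift.exists_lift_of_smooth (ε.comp hh)
  let φ : MvPolynomial (Fin n) R →ₐ[R] R := (τ.comp g).comp (Ideal.Quotient.mkₐ R J)
  refine ⟨fun i => φ (MvPolynomial.X i), fun j => ?_⟩
  have hφ : φ = MvPolynomial.aeval (fun i => φ (MvPolynomial.X i)) := by
    apply MvPolynomial.algHom_ext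
    intro i
    rw [MvPolynomial.aeval_X]
  have h1 : MvPolynomial.eval (fun i => φ (MvPolynomial.X i)) (F j) = φ (F j) := by
    conv_rhs => rw [hφ]
    rfl
  rw [h1]
  have h2 : Ideal.Quotient.mkₐ R J (F j) = 0 := by
    rw [Ideal.Quotient.mkₐ_eq_mk, Ideal.Quotient.eq_zero_iff_mem]
    exact Ideal.subset_span ⟨j, rfl⟩
  show τ (g (Ideal.Quotient.mkₐ R J (F j))) = 0
  rw [h2, map_zero, map_zero]

end Groth.Agent.Lib.Helper77.AA.Core
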