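import Mathlib
import Groth.Prelude.Def_Found
import Groth.Prelude.Def_Smoothing
import Groth.Agent.Lib.Helper77.AA.Core
import Groth.Agent.Lib.Helper69.ArtinAA2
import Groth.Agent.Lib.Helper49.GRingLocal
import Groth.Agent.Lib.Helper27.PopescuC
import Groth.Agent.Lib.Helper76.ComplFacts
import Groth.Agent.S0543

set_option autoImplicit false

universe u

namespace Groth.Agent.Lib.Helper77.AA.Main

/-- Artin approximation for henselian Noetherian local G-rings (from Popescu's theorem). -/
theorem main (R : Type u) [CommRing R] [HenselianLocalRing R]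
    (hG : CAlg.IsGRing R) (n m : ℕ) (F : Fin m → MvPolynomial (Fin n) R)
    (a : Fin n → (AdicCompletion (IsLocalRing.maximalIdeal R) R))
    (ha : ∀ j, MvPolynomial.eval a (MvPolynomial.map
      (algebraMap R (AdicCompletion (IsLocalRing.maximalIdeal R) R)) (F j)) = 0) (N : ℕ) :
    ∃ b : Fin n → R, (∀ j, MvPolynomial.eval b (F j) = 0) ∧
      ∀ i, a i - algebraMap R (AdicCompletion (IsLocalRing.maximalIdeal R) R) (b i) ∈
        (IsLocalRing.maximalIdeal R ^ N).map
          (algebraMap R (AdicCompletion (IsLocalRing.maximalIdeal R) R)) := by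
  haveI : IsNoetherianRing R := hG.1
  haveI : IsNoetherianRing (AdicCompletion (IsLocalRing.maximalIdeal R) R) :=
    Groth.Agent.S0543.result R _
  have hreg : CAlg.IsRegularHom R (AdicCompletion (IsLocalRing.maximalIdeal R) R) :=
    Groth.Agent.Lib.Helper49.GRingLocal.isRegularHom_cpl_of_isGRing R hG
  have hind : Smoothing.IndSmooth R (AdicCompletion (IsLocalRing.maximalIdeal R) R) :=
    Helper27.Popescu.popescu hreg
  let ε : AdicCompletion (IsLocalRing.maximalIdeal R) R →ₐ[R] IsLocalRing.ResidueField R :=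
    AdicCompletion.evalOneₐ (IsLocalRing.maximalIdeal R)
  have hfg : (IsLocalRing.maximalIdeal R).FG := IsNoetherian.noetherian _
  refine Groth.Agent.Lib.Helper69.ArtinAA2.approx_of_exists (IsLocalRing.maximalIdeal R ^ N)
    (IsNoetherian.noetherian _) ?_
    (fun n m F h => Groth.Agent.Lib.Helper77.AA.Core.exists_solution hind ε n m F h) n m F a ha
  intro x
  obtain ⟨r, hr⟩ := Groth.Agent.Lib.Helper76.ComplFacts.exists_sub_mem
    (IsLocalRing.maximalIdeal R) hfg N x
  refine ⟨r, ?_⟩
  rw [Ideal.map_pow]
  exact hr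

end Groth.Agent.Lib.Helper77.AA.Main
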